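import Groth.Agent.S11875
import Groth.Agent.AlgSpLib.PointFactor
import Groth.Agent.AlgSpLib.ReducedSmooth
import Groth.Agent.BlanchardLib.Desc
import Groth.Agent.BlowRegLib.ExcCurve
import Groth.Agent.BlowRegLib.Global
import Groth.Agent.CohCmpLib.FamilyPic2
import Groth.Prelude.Def_ModelsG

/-!
# Morphisms to schemes without rational curves descend along contractions
-/

set_option autoImplicit false
set_option linter.style.haveILetI false
set_option backward.isDefEq.respectTransparency false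
set_option backward.isDefEq.respectTransparency.types false

universe u

open CategoryTheory CategoryTheory.Limits MonoidalCategory CartesianMonoidalCategory AlgebraicGeometry TopologicalSpace


noncomputable section

namespace AbRegExt

variable {A S T : Scheme.{u}}

/-- Every projective line over an algebraically closed point of the base maps to a point. -/
def NoRat (p : A ⟶ S) : Prop :=
  ∀ (K : Type u) [Field K] [IsAlgClosed K] (ψ : CohB1.ProjSpace 1 K ⟶ A) (t : Spec (CommRingCat.of K) ⟶ S),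
    ψ ≫ p = CohB1.ProjSpace.toSpec 1 K ≫ t → ∃ g, ψ = CohB1.ProjSpace.toSpec 1 K ≫ g

/-- Smooth proper group schemes have no rational curves in their fibres. -/
theorem noRat_of_grp (A : Over S) [GrpObj A] [IsProper A.hom] [Smooth A.hom] : NoRat A.hom := by
  intro K _ _ ψ t h
  let G := (Over.pullback t).obj A
  letI : GrpObj G := Functor.grpObjObj
  haveI : IsProper G.hom := inferInstanceAs (IsProper (pullback.snd A.hom t))
  haveI : Smooth G.hom := inferInstanceAs (Smooth (pullback.snd A.hom t))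
  haveI : IsReduced G.left := AlgSpLib.isReduced_of_smooth G.hom
  obtain ⟨g, hg⟩ := Groth.Agent.S11875.result K G (pullback.lift ψ (CohB1.ProjSpace.toSpec 1 K) h) (pullback.lift_snd _ _ _)
  refine ⟨g ≫ pullback.fst A.hom t, ?_⟩
  rw [← Category.assoc, ← hg, pullback.lift_fst]

/-- The absence of rational curves in fibres is stable under base change. -/
theorem NoRat.baseChange {p : A ⟶ S} (h : NoRat p) (σ : T ⟶ S) : NoRat (pullback.fst σ p) := by
  intro K _ _ ψ t hψ
  obtain ⟨g, hg⟩ := h K (ψ ≫ pullback.snd σ p) (t ≫ σ) (by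
    rw [Category.assoc, ← pullback.condition, ← Category.assoc, hψ, Category.assoc])
  obtain ⟨w, hw, -⟩ := EdP1Lib.exists_std K 0
  refine ⟨pullback.lift t g ?_, pullback.hom_ext ?_ ?_⟩
  · have e : (w ≫ ψ ≫ pullback.snd σ p) ≫ p = (w ≫ ψ ≫ pullback.fst σ p) ≫ σ := by
      simp only [Category.assoc, pullback.condition]
    rw [hg, hψ, ← Category.assoc, hw, Category.id_comp, ← Category.assoc w, hw, Category.id_comp] at e
    exact e.symm
  · rw [Category.assoc, pullback.lift_fst, hψ]
  · rw [Category.assoc, pullback.lift_snd, hg]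

/-- Maps from a projective line to an affine scheme are constant. -/
theorem exists_eq_toSpec_comp (K : Type u) [Field K] [IsAlgClosed K] {Z : Scheme.{u}} [IsAffine Z]
    (u : CohB1.ProjSpace 1 K ⟶ Z) : ∃ t, u = CohB1.ProjSpace.toSpec 1 K ≫ t := by
  obtain ⟨w, hw, -⟩ := EdP1Lib.exists_std K 0
  haveI : IsIso (CohB1.ProjSpace.toSpec 1 K).appTop := (Groth.Agent.S11875.isΓIso_P1 (k := K)).1
  have h1 : (CohB1.ProjSpace.toSpec 1 K).appTop ≫ w.appTop = 𝟙 _ := by
    rw [← Scheme.Hom.comp_appTop, hw]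
    exact Scheme.Hom.id_appTop
  have h2 : w.appTop ≫ (CohB1.ProjSpace.toSpec 1 K).appTop = 𝟙 _ := by
    rw [← cancel_epi (CohB1.ProjSpace.toSpec 1 K).appTop, ← Category.assoc, h1, Category.id_comp, Category.comp_id]
  refine ⟨w ≫ u, ext_of_isAffine ?_⟩
  rw [Scheme.Hom.comp_appTop, Scheme.Hom.comp_appTop, Category.assoc, h2, Category.comp_id]

/-- A morphism to a scheme without rational curves is constant on the exceptional curve of a contraction. -/
theorem constant_on_excCurve {p : A ⟶ S} (hA : NoRat p) {E Y Z : Scheme.{u}} (ι : E ⟶ Y) (hE : Models.IsExcCurve ι)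
    (b : Y ⟶ Z) (y : Z) (hy : ∀ e : E, b (ι e) = y) (τ : Z ⟶ S) (h : Y ⟶ A) (hh : h ≫ p = b ≫ τ) :
    ∃ a : A, ∀ e : E, h (ι e) = a := by
  obtain ⟨-, k, _, e, -⟩ := hE
  let K := AlgebraicClosure k
  haveI : Surjective (Spec.map (CommRingCat.ofHom (algebraMap k K))) :=
    ⟨fun z => ⟨(⊥ : PrimeSpectrum K), Subsingleton.elim (α := PrimeSpectrum k) _ _⟩⟩
  haveI : Surjective (Groth.Agent.P1Grp.projG (algebraMap k K)) :=
    MorphismProperty.of_isPullback (Groth.Agent.P1Grp.isPullback_projG (algebraMap k K)).flip inferInstance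
  haveI : IsReduced (CohB1.ProjSpace 1 K) := GenusZeroLib.isReduced_projSpace K 1
  let q : CohB1.ProjSpace 1 K ⟶ Y := Groth.Agent.P1Grp.projG (algebraMap k K) ≫ e.hom ≫ ι
  obtain ⟨v, hv⟩ := AlgSpLib.exists_factor_residueField (q ≫ b) y fun z => hy _
  obtain ⟨t, ht⟩ := exists_eq_toSpec_comp K v
  obtain ⟨g, hg⟩ := hA K (q ≫ h) (t ≫ Z.fromSpecResidueField y ≫ τ) (by
    rw [Category.assoc, hh, ← Category.assoc, ← hv, ht]
    simp only [Category.assoc])
  refine ⟨g (IsLocalRing.closedPoint K), fun x => ?_⟩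
  obtain ⟨x', rfl⟩ := (ConcreteCategory.bijective_of_isIso e.hom.base).2 x
  obtain ⟨z, rfl⟩ := (Groth.Agent.P1Grp.projG (algebraMap k K)).surjective x'
  calc h (ι (e.hom (Groth.Agent.P1Grp.projG (algebraMap k K) z))) = (q ≫ h) z := rfl
    _ = g (CohB1.ProjSpace.toSpec 1 K z) := by rw [hg]; rfl
    _ = g (IsLocalRing.closedPoint K) := congrArg g (Subsingleton.elim (α := PrimeSpectrum K) _ _)

/-- Morphisms to schemes without rational curves descend along sequences of contractions. -/
theorem descend {Y X : Scheme.{u}} (g : Y ⟶ X) (hg : Models.IsContractionSeq g) :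
    ∀ {A S : Scheme.{u}} (p : A ⟶ S) (σ : X ⟶ S) (h : Y ⟶ A), NoRat p → h ≫ p = g ≫ σ →
      ∃ h' : X ⟶ A, h' ≫ p = σ ∧ g ≫ h' = h := by
  induction hg with
  | @iso Y X e =>
    intro A S p σ h _ hh
    exact ⟨e.inv ≫ h, by rw [Category.assoc, hh, Iso.inv_hom_id_assoc], Iso.hom_inv_id_assoc _ _⟩
  | @step Y Z X E ι b r hι hE hb _ ih =>
    intro A S p σ h hA hh
    haveI := hι
    haveI := hb.1
    haveI := hb.2.1
    haveI : IsNoetherian Y := {
      toIsLocallyNoetherian := LocallyOfFiniteType.isLocallyNoetherian b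
      toCompactSpace := QuasiCompact.compactSpace_of_compactSpace b }
    obtain ⟨-, -, hsurj, y, hy, -, -, hbl, hlr, hiso, hrange, -⟩ := BlowRegLib.contraction_data ι hE b hb
    haveI := hsurj
    haveI := BlowRegLib.isIso_unitToPush hbl hlr
    have hbij : ∀ U : Z.Opens, Function.Bijective (b.app U).hom := fun U =>
      haveI := CohCmpLib.isIso_app_of_unitToPush b U
      ConcreteCategory.bijective_of_isIso (b.app U)
    have hιy : ∀ x, b (ι x) = y := fun x => (hrange.le ⟨x, rfl⟩ : ι x ∈ b ⁻¹' {y})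
    obtain ⟨a, ha⟩ := constant_on_excCurve hA ι hE b y hιy (r ≫ σ) h (by rw [hh, Category.assoc])
    obtain ⟨hZ, hhZ, -⟩ := BlanchardLib.existsUnique_desc b h hbij fun z => by
      by_cases hz : z = y
      · subst hz
        refine ⟨a, fun x hx => ?_⟩
        obtain ⟨x', rfl⟩ := hrange.ge (show x ∈ b ⁻¹' {z} from hx)
        exact ha x'
      · obtain ⟨x₀, hx₀⟩ := b.surjective z
        refine ⟨h x₀, fun x hx => ?_⟩
        haveI := hiso
        let O : Z.Opens := ⟨({y} : Set Z)ᶜ, hy.isOpen_compl⟩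
        have hinj : Function.Injective (b ∣_ O) := (b ∣_ O).isOpenEmbedding.injective
        have := congrArg (fun x : ↥(b ⁻¹ᵁ O) => x.1) (hinj (a₁ := ⟨x, show b x ∈ O from hx ▸ hz⟩)
          (a₂ := ⟨x₀, show b x₀ ∈ O from hx₀ ▸ hz⟩) (Subtype.ext (by
            rw [morphismRestrict_base_coe, morphismRestrict_base_coe]; exact hx.trans hx₀.symm)))
        exact congrArg h this
    have hZp : hZ ≫ p = r ≫ σ := by
      refine H0Lib.hom_ext_of_bijective b hbij _ _ ?_
      rw [← Category.assoc, hhZ, hh, Category.assoc]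
    obtain ⟨h', hp', hh'⟩ := ih p σ hZ hA hZp
    exact ⟨h', hp', by rw [Category.assoc, hh', hhZ]⟩

end AbRegExt
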