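import Groth.Agent.AbRegExtLib.Global
import Groth.Agent.S7826
import Groth.Agent.S7843
import Groth.Agent.HurwitzLib.SmoothCurve
import Groth.Agent.GenusZeroLib.Apps
import Groth.Agent.VeryAmpleLib.Bc
import Groth.Agent.FibDimLib.FieldExt
import Groth.Agent.BlowUpLib.RegBlow
import Groth.Agent.S3250

/-!
# Curves of positive genus have no rational curves
-/

set_option autoImplicit false
set_option linter.style.haveILetI false
set_option backward.isDefEq.respectTransparency false
set_option backward.isDefEq.respectTransparency.types false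
set_option maxHeartbeats 1000000

universe u

open CategoryTheory CategoryTheory.Limits AlgebraicGeometry TopologicalSpace

noncomputable section

namespace AbRegExt

/-- A map from the projective line over an algebraically closed field which is constant on points factors through the point. -/
theorem exists_eq_toSpec_comp_of_constant {K : Type u} [Field K] [IsAlgClosed K] {Z : Scheme.{u}}
    (q : Z ⟶ Spec (CommRingCat.of K)) [IsSeparated q] [LocallyOfFiniteType q] (ψ : CohB1.ProjSpace 1 K ⟶ Z)
    (hψ : ψ ≫ q = CohB1.ProjSpace.toSpec 1 K) (hc : ∀ a b, ψ a = ψ b) :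
    ∃ z, ψ = CohB1.ProjSpace.toSpec 1 K ≫ z := by
  obtain ⟨w, hw, -⟩ := EdP1Lib.exists_std K 0
  haveI : IsReduced (CohB1.ProjSpace 1 K) := GenusZeroLib.isReduced_projSpace K 1
  haveI : IsProper (CohB1.ProjSpace.toSpec 1 K) := ProjDegLib.toSpec_isProper K 1
  haveI : LocallyOfFiniteType (ψ ≫ q) := by rw [hψ]; infer_instance
  refine ⟨w ≫ ψ, ext_of_apply_eq q Set.univ isClosed_univ.isLocallyClosed dense_univ (fun x _ _ => hc _ _) ?_⟩
  rw [Category.assoc, Category.assoc, hψ, hw, Category.comp_id]

/-- A proper smooth family of connected curves of positive genus has no rational curves in its fibres. -/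
theorem noRat_of_genus {S Y : Scheme.{u}} (g : Y ⟶ S) [IsProper g] [Smooth g] [GeometricallyConnected g]
    (hdim : ∀ s : S, topologicalKrullDim ↥(g.fiber s) = 1) (n : ℕ) (hn : 1 ≤ n)
    (hgen : ∀ s : S, letI : (g.fiber s).Over (Spec (S.residueField s)) := ⟨g.fiberToSpecResidueField s⟩
      Curv2.genus (S.residueField s) (g.fiber s) = n) : NoRat g := by
  intro K _ _ ψ t hψ
  let s := t (IsLocalRing.closedPoint K)
  obtain ⟨ρ, hρ⟩ : ∃ ρ : S.residueField s ⟶ CommRingCat.of K, Spec.map ρ ≫ S.fromSpecResidueField s = t :=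
    ⟨_, Scheme.descResidueField_stalkClosedPointTo_fromSpecResidueField K S t⟩
  letI : Algebra (S.residueField s) K := ρ.hom.toAlgebra
  let F := g.fiber s
  letI : F.Over (Spec (CommRingCat.of (S.residueField s))) := ⟨g.fiberToSpecResidueField s⟩
  haveI : IsProper (F ↘ Spec (CommRingCat.of (S.residueField s))) :=
    inferInstanceAs (IsProper (pullback.snd g (S.fromSpecResidueField s)))
  haveI : Smooth (F ↘ Spec (CommRingCat.of (S.residueField s))) :=
    inferInstanceAs (Smooth (pullback.snd g (S.fromSpecResidueField s)))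
  haveI : GeometricallyConnected (F ↘ Spec (CommRingCat.of (S.residueField s))) :=
    inferInstanceAs (GeometricallyConnected (pullback.snd g (S.fromSpecResidueField s)))
  let Z := Curv2.bc (S.residueField s) F K
  letI : Z.Over (Spec (CommRingCat.of K)) := VeryAmpleLib.bcOver (S.residueField s) F K
  haveI : IsProper (Z ↘ Spec (CommRingCat.of K)) := VeryAmpleLib.isProper_bc (S.residueField s) F K
  haveI : Smooth (Z ↘ Spec (CommRingCat.of K)) :=
    MorphismProperty.pullback_snd (F ↘ Spec (CommRingCat.of (S.residueField s))) _ inferInstance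
  haveI : GeometricallyConnected (Z ↘ Spec (CommRingCat.of K)) :=
    inferInstanceAs (GeometricallyConnected (pullback.snd (F ↘ Spec (CommRingCat.of (S.residueField s))) _))
  haveI : ConnectedSpace Z := GeometricallyConnected.connectedSpace_of_subsingleton (Z ↘ Spec (CommRingCat.of K))
  haveI : IsIntegral Z := Groth.Agent.S7843.isIntegral_of_smooth (k := K)
  have hZdim : topologicalKrullDim Z = 1 := by
    refine Eq.trans ?_ (hdim s)
    exact FibDimLib.topologicalKrullDim_pullback_field (k := S.residueField s) (K := K)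
      (F ↘ Spec (CommRingCat.of (S.residueField s)))
  let P := CohB1.ProjSpace.toSpec 1 K
  let a : CohB1.ProjSpace 1 K ⟶ F := pullback.lift ψ (P ≫ Spec.map ρ) (by rw [hψ, ← hρ, Category.assoc])
  let ψ' : CohB1.ProjSpace 1 K ⟶ Z := pullback.lift a P (by
    show a ≫ pullback.snd g (S.fromSpecResidueField s) = _
    rw [pullback.lift_snd]
    rfl)
  have hψ' : ψ' ≫ (Z ↘ Spec (CommRingCat.of K)) = P := pullback.lift_snd _ _ _
  obtain ⟨z, hz⟩ := exists_eq_toSpec_comp_of_constant (Z ↘ Spec (CommRingCat.of K)) ψ' hψ' fun x y => by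
    by_contra hne
    obtain ⟨e, -⟩ := Groth.Agent.S7826.result K (Z ↘ Spec (CommRingCat.of K))
      (HurwitzLib.isNormalScheme_of_smooth (k := K)) hZdim ψ' hψ' ⟨x, y, hne⟩
    haveI := GenusZeroLib.subsingleton_h1_of_iso (k := K) e
    have h1 : Curv2.genus K Z = 0 := Module.finrank_zero_of_subsingleton
    rw [VeryAmpleLib.genus_bc (S.residueField s) F K, hgen s] at h1
    omega
  refine ⟨z ≫ pullback.fst (F ↘ Spec (CommRingCat.of (S.residueField s))) _ ≫ pullback.fst g (S.fromSpecResidueField s), ?_⟩
  calc ψ = a ≫ pullback.fst g (S.fromSpecResidueField s) := (pullback.lift_fst _ _ _).symm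
    _ = (ψ' ≫ pullback.fst (F ↘ Spec (CommRingCat.of (S.residueField s))) _) ≫
        pullback.fst g (S.fromSpecResidueField s) := congrArg (· ≫ _) (pullback.lift_fst _ _ _).symm
    _ = _ := by rw [hz, Category.assoc, Category.assoc]

/-- Isomorphisms of the generic fibres of curves of positive genus over a discrete valuation ring extend. -/
theorem exists_iso_of_generic {R : Type u} [CommRing R] [IsDomain R] [IsDiscreteValuationRing R] {X Y : Scheme.{u}}
    (f : X ⟶ Spec (CommRingCat.of R)) (g : Y ⟶ Spec (CommRingCat.of R))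
    [IsProper f] [Smooth f] [IsProper g] [Smooth g] (hX : NoRat f) (hY : NoRat g)
    (η : Spec (CommRingCat.of (FractionRing R)) ⟶ Spec (CommRingCat.of R))
    (hη : η = Spec.map (CommRingCat.ofHom (algebraMap R (FractionRing R))))
    (φ : pullback f η ≅ pullback g η) (hφ : φ.hom ≫ pullback.snd g η = pullback.snd f η) :
    ∃ e : X ≅ Y, e.hom ≫ g = f ∧ pullback.fst f η ≫ e.hom = φ.hom ≫ pullback.fst g η ∧
      ∀ e' : X ⟶ Y, pullback.fst f η ≫ e' = φ.hom ≫ pullback.fst g η → e' = e.hom := by
  haveI : IsOpenImmersion η := hη ▸ Groth.Agent.S3250.isOpenImmersion_genPt R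
  haveI : IsDominant η := by
    constructor
    intro x
    refine closure_mono (Set.singleton_subset_iff.2 ?_) (specializes_iff_mem_closure.1
      ((genericPoint_spec (Spec (CommRingCat.of R))).specializes (Set.mem_univ x)))
    rw [hη]
    refine ⟨(⊥ : PrimeSpectrum (FractionRing R)), ?_⟩
    rw [AlgebraicGeometry.genericPoint_eq_bot_of_affine]
    refine PrimeSpectrum.ext (le_antisymm (fun r hr => ?_) bot_le)
    have h1 : algebraMap R (FractionRing R) r ∈ (⊥ : Ideal (FractionRing R)) := hr
    exact Ideal.mem_bot.2 ((injective_iff_map_eq_zero _).1 (IsFractionRing.injective R (FractionRing R)) r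
      (Ideal.mem_bot.1 h1))
  have key : ∀ {A B : Scheme.{u}} (a : A ⟶ Spec (CommRingCat.of R)) (b : B ⟶ Spec (CommRingCat.of R))
      [IsProper a] [Smooth a] [IsProper b], NoRat b → ∀ h : pullback a η ⟶ B, h ≫ b = pullback.fst a η ≫ a →
      (∃ e : A ⟶ B, e ≫ b = a ∧ pullback.fst a η ≫ e = h) ∧
        ∀ e e' : A ⟶ B, pullback.fst a η ≫ e = pullback.fst a η ≫ e' → e = e' := by
    intro A B a b _ _ _ hb h hh
    haveI : IsLocallyNoetherian A := LocallyOfFiniteType.isLocallyNoetherian a
    have hreg : ∀ x : A, IsRegularLocalRing (A.presheaf.stalk x) := fun x =>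
      haveI := WeilExtLib.isRegular_stalk_dedekind (R := R) (a x)
      BlowUpLib.isRegularLocalRing_stalk_of_smooth a x
    haveI := isReduced_of_regular hreg
    haveI : IsDominant (pullback.fst a η) := ⟨by
      rw [DenseRange, Scheme.Pullback.range_fst]
      exact Dense.preimage η.denseRange a.isOpenMap⟩
    haveI : B.IsSeparated := ⟨by
      rw [show terminal.from B = b ≫ terminal.from (Spec (CommRingCat.of R)) from terminal.hom_ext _ _]
      infer_instance⟩
    have huniq : ∀ e e' : A ⟶ B, pullback.fst a η ≫ e = pullback.fst a η ≫ e' → e = e' :=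
      fun e e' he => ext_of_isDominant (pullback.fst a η) he
    let U := (pullback.fst a η).opensRange
    obtain ⟨e, he, he'⟩ := exists_extension b hb hreg a U (pullback.fst a η).denseRange
      ((pullback.fst a η).isoOpensRange.inv ≫ h) (by
        rw [Category.assoc, hh, Scheme.Hom.isoOpensRange_inv_comp_assoc])
    refine ⟨⟨e, he, ?_⟩, huniq⟩
    calc pullback.fst a η ≫ e = ((pullback.fst a η).isoOpensRange.hom ≫ U.ι) ≫ e := by
          rw [Scheme.Hom.isoOpensRange_hom_ι]
      _ = h := by rw [Category.assoc, he', Iso.hom_inv_id_assoc]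
  have h1 : (φ.hom ≫ pullback.fst g η) ≫ g = pullback.fst f η ≫ f := by
    rw [Category.assoc, pullback.condition, reassoc_of% hφ, pullback.condition]
  obtain ⟨⟨e, he, he'⟩, hu⟩ := key f g hY (φ.hom ≫ pullback.fst g η) h1
  obtain ⟨⟨e₁, he₁, he₁'⟩, hu₁⟩ := key g f hX (φ.inv ≫ pullback.fst f η) (by
    rw [Category.assoc, ← h1, Category.assoc, Iso.inv_hom_id_assoc])
  obtain ⟨-, huX⟩ := key f f hX (pullback.fst f η) rfl
  obtain ⟨-, huY⟩ := key g g hY (pullback.fst g η) rfl
  refine ⟨⟨e, e₁, huX _ _ ?_, huY _ _ ?_⟩, he, he', fun e' he'' => hu _ _ (he''.trans he'.symm)⟩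
  · rw [← Category.assoc, he', Category.assoc, he₁', Iso.hom_inv_id_assoc, Category.comp_id]
  · rw [← Category.assoc, he₁', Category.assoc, he', Iso.inv_hom_id_assoc, Category.comp_id]

end AbRegExt
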