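import Groth.Agent.AbRegExtLib.Global
import Groth.Agent.ConsLib.FGSystem
import Groth.Agent.GenusZeroLib.PSmooth
import Groth.Agent.ProjDegLib.Criterion

/-!
# Absence of rational curves over an algebraically closed field persists over bigger fields
-/

set_option autoImplicit false
set_option linter.style.haveILetI false
set_option backward.isDefEq.respectTransparency false
set_option backward.isDefEq.respectTransparency.types false
set_option maxHeartbeats 1000000

universe u

open CategoryTheory CategoryTheory.Limits AlgebraicGeometry TopologicalSpace Opposite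

noncomputable section

namespace AbRegExt

/-- If all projective lines over an algebraically closed base field are contracted, so are all projective lines over
algebraically closed extensions. -/
theorem noRat_of_noRatCurve {k : Type u} [Field k] [IsAlgClosed k] {Y : Scheme.{u}} (p : Y ⟶ Spec (CommRingCat.of k))
    [IsSeparated p] [LocallyOfFiniteType p]
    (h : ∀ g : CohB1.ProjSpace 1 k ⟶ Y, g ≫ p = CohB1.ProjSpace.toSpec 1 k → ∃ y : Y, Set.range g.base ⊆ {y}) :
    NoRat p := by
  intro K _ _ ψ t hψ
  obtain ⟨ρ, rfl⟩ := Spec.map_surjective t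
  letI : Algebra k K := ρ.hom.toAlgebra
  let g := CohB1.ProjSpace.toSpec 1 k
  let A := ConsLib.fgSys k K (Iso.refl (Spec (CommRingCat.of k)))
  have hAs : A.s = Spec.map ρ := Category.comp_id _
  have hpb : IsPullback (Groth.Agent.P1Grp.projG ρ.hom) (CohB1.ProjSpace.toSpec 1 K) g A.s := by
    rw [hAs]; exact Groth.Agent.P1Grp.isPullback_projG ρ.hom
  let e : pullback g A.s ≅ CohB1.ProjSpace 1 K := hpb.isoPullback.symm
  let B := RichLib.LimBC.pb A g
  have he : e.hom ≫ ψ ≫ p = pullback.fst g A.s ≫ g := by
    rw [hψ, pullback.condition, ← hAs, ← Category.assoc]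
    exact congrArg (· ≫ A.s) hpb.isoPullback_inv_snd
  haveI : ∀ {i j : (ConsLib.FGSub k K)ᵒᵖ} (a : i ⟶ j), IsAffineHom (B.D.map a) := fun a => B.affine_map a
  haveI : IsProper g := ProjDegLib.toSpec_isProper k 1
  haveI : CompactSpace (CohB1.ProjSpace 1 k) := QuasiCompact.compactSpace_of_compactSpace g
  haveI : QuasiSeparatedSpace (CohB1.ProjSpace 1 k) := quasiSeparatedSpace_of_quasiSeparated g
  haveI := B.compactSpace_obj
  haveI := B.quasiSeparatedSpace_obj
  haveI : LocallyOfFinitePresentation p := inferInstance
  obtain ⟨i, b, hb, hbt⟩ := Scheme.exists_π_app_comp_eq_of_locallyOfFinitePresentation B.D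
    { app := fun i => B.t i ≫ g
      naturality := fun i j a => by
        simp only [Functor.const_obj_map, ← Category.assoc]
        rw [B.w a]
        exact (Category.comp_id _).symm }
    p B.c B.hc (e.hom ≫ ψ) (by
      ext i
      show B.c.π.app i ≫ B.t i ≫ g = (e.hom ≫ ψ) ≫ p
      rw [← Category.assoc, B.hs i, Category.assoc, he]
      rfl)
  obtain ⟨b, hb, hbt⟩ : ∃ b : pullback g (A.t i) ⟶ Y,
      RichLib.LimBC.pbπ A g i ≫ b = e.hom ≫ ψ ∧ b ≫ p = pullback.fst g (A.t i) ≫ g := ⟨b, hb, hbt⟩
  let f := pullback.snd g (A.t i)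
  haveI : Smooth g := GenusZeroLib.smooth_toSpec 1 k
  haveI : Smooth f := MorphismProperty.pullback_snd g (A.t i) inferInstance
  haveI : IsReduced (A.D.obj i) := inferInstanceAs (IsReduced (Spec (CommRingCat.of i.unop.1)))
  haveI : IsReduced (pullback g (A.t i)) := AlgSpLib.isReduced_of_smooth f
  haveI : LocallyOfFiniteType (A.t i) := ConsLib.locallyOfFiniteType_fgSys_t k K (Iso.refl _) i
  haveI : LocallyOfFiniteType (pullback.fst g (A.t i) ≫ g) := inferInstance
  obtain ⟨w, hw, -⟩ := EdP1Lib.exists_std k 0
  have hw' : w ≫ g = 𝟙 _ := hw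
  let s : A.D.obj i ⟶ pullback g (A.t i) := pullback.lift (A.t i ≫ w) (𝟙 _)
    (by rw [Category.assoc, hw', Category.comp_id, Category.id_comp])
  have hbc : b = f ≫ s ≫ b := by
    haveI : LocallyOfFiniteType (b ≫ p) := by rw [hbt]; infer_instance
    refine ext_of_apply_eq p Set.univ isClosed_univ.isLocallyClosed dense_univ (fun x _ hx => ?_) ?_
    · let σ := pullback.fst g (A.t i) ≫ g
      let P := pointOfClosedPoint σ x hx
      have hP : P ≫ σ = 𝟙 _ := pointOfClosedPoint_comp σ x hx
      have hPx : P (IsLocalRing.closedPoint k) = x := pointOfClosedPoint_apply σ x hx _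
      let q := P ≫ f
      have hq : q ≫ A.t i = 𝟙 _ := by
        rw [Category.assoc, ← pullback.condition]
        exact hP
      let j : CohB1.ProjSpace 1 k ⟶ pullback g (A.t i) :=
        pullback.lift (𝟙 _) (g ≫ q) (by rw [Category.assoc, hq, Category.comp_id, Category.id_comp])
      obtain ⟨y, hy⟩ := h (j ≫ b) (by
        rw [Category.assoc, hbt, pullback.lift_fst_assoc, Category.id_comp])
      have e1 : (P ≫ pullback.fst g (A.t i)) ≫ j = P := by
        refine pullback.hom_ext ?_ ?_
        · rw [Category.assoc, pullback.lift_fst, Category.comp_id]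
        · rw [Category.assoc, pullback.lift_snd, Category.assoc, ← Category.assoc P, ← Category.assoc,
            show (P ≫ pullback.fst g (A.t i)) ≫ g = 𝟙 _ from (Category.assoc _ _ _).trans hP, Category.id_comp]
      have e2 : q ≫ s = w ≫ j := by
        refine pullback.hom_ext ?_ ?_
        · rw [Category.assoc, pullback.lift_fst, ← Category.assoc, hq, Category.id_comp, Category.assoc,
            pullback.lift_fst, Category.comp_id]
        · rw [Category.assoc, pullback.lift_snd, Category.comp_id, Category.assoc, pullback.lift_snd,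
            ← Category.assoc, hw', Category.id_comp]
      calc b x = (j ≫ b) ((P ≫ pullback.fst g (A.t i)) (IsLocalRing.closedPoint k)) := by
            rw [Scheme.Hom.comp_apply j b, ← Scheme.Hom.comp_apply (P ≫ pullback.fst g (A.t i)) j, e1, hPx]
        _ = y := hy ⟨_, rfl⟩
        _ = (j ≫ b) (w (IsLocalRing.closedPoint k)) := (hy ⟨_, rfl⟩).symm
        _ = (f ≫ s ≫ b) x := by
          rw [← hPx, ← Scheme.Hom.comp_apply w (j ≫ b), ← Category.assoc, ← e2]
          rfl
    · simp only [Category.assoc, hbt]
      rw [pullback.lift_fst_assoc, Category.assoc, hw', Category.comp_id, pullback.condition]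
  refine ⟨A.c.π.app i ≫ s ≫ b, ?_⟩
  rw [← cancel_epi e.hom, ← hb]
  conv_lhs => rw [hbc]
  simp only [f, RichLib.LimBC.pbπ_snd_assoc]
  rw [← hpb.isoPullback_inv_snd_assoc]
  rfl

end AbRegExt
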