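import Groth.Agent.AbRegExtLib.Local

/-!
# Rational maps from regular schemes to schemes without rational curves are everywhere defined
-/

set_option autoImplicit false
set_option linter.style.haveILetI false
set_option backward.isDefEq.respectTransparency false
set_option backward.isDefEq.respectTransparency.types false
set_option maxHeartbeats 1000000

universe u

open CategoryTheory CategoryTheory.Limits AlgebraicGeometry TopologicalSpace IsLocalRing

noncomputable section

namespace AbRegExt

theorem isReduced_of_regular {T : Scheme.{u}} (hreg : ∀ x : T, IsRegularLocalRing (T.presheaf.stalk x)) :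
    IsReduced T := by
  haveI : ∀ x : T, _root_.IsReduced (T.presheaf.stalk x) := fun x =>
    haveI := hreg x
    haveI : IsDomain (T.presheaf.stalk x) := CommAlgDim.isDomain_of_isRegularLocalRing _
    inferInstance
  exact isReduced_of_isReduced_stalk T

/-- Two extensions from a dense open agree. -/
theorem ext_of_dense {S A T : Scheme.{u}} [IsReduced T] (pA : A ⟶ S) [IsSeparated pA] {U : T.Opens}
    (hU : Dense (U : Set T)) {a b : T ⟶ A} (hs : a ≫ pA = b ≫ pA) (h : U.ι ≫ a = U.ι ≫ b) : a = b :=
  haveI : IsDominant U.ι := ⟨by rw [DenseRange, Scheme.Opens.range_ι]; exact hU⟩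
  ext_of_isDominant_of_isSeparated pA hs _ h

/-- **Extension of rational maps from regular schemes.** -/
theorem exists_extension {S A T : Scheme.{u}} (pA : A ⟶ S) [IsProper pA] (hA : NoRat pA) [IsLocallyNoetherian T]
    (hreg : ∀ x : T, IsRegularLocalRing (T.presheaf.stalk x)) (t : T ⟶ S) (U : T.Opens) (hU : Dense (U : Set T))
    (g : U.toScheme ⟶ A) (hg : g ≫ pA = U.ι ≫ t) : ∃ g' : T ⟶ A, g' ≫ pA = t ∧ U.ι ≫ g' = g := by
  haveI := isReduced_of_regular hreg
  let J := {N : T.Opens // ∃ gN : N.toScheme ⟶ A, gN ≫ pA = N.ι ≫ t ∧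
    T.homOfLE (inf_le_right : U ⊓ N ≤ N) ≫ gN = T.homOfLE (inf_le_left : U ⊓ N ≤ U) ≫ g}
  choose f hf hf' using fun j : J => j.2
  obtain ⟨F, hF, hFj⟩ := WeilExtLib.exists_glue_family t pA (fun j : J => j.1) f hf hU g hf'
  let M : T.Opens := ⨆ j : J, j.1
  let jU : J := ⟨U, g, hg, rfl⟩
  have hUM : U ≤ M := le_iSup (fun j : J => j.1) jU
  have hFU : T.homOfLE hUM ≫ F = g := by
    refine (hFj jU).trans ?_
    have e := congrArg (fun k => T.homOfLE (le_inf le_rfl le_rfl : U ≤ U ⊓ U) ≫ k) (hf' jU)
    simp only [Scheme.homOfLE_homOfLE_assoc] at e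
    rwa [Scheme.homOfLE_rfl, Category.id_comp, Category.id_comp] at e
  have hall : ∀ (d : ℕ) (x : T), ringKrullDim (T.presheaf.stalk x) = d → x ∈ M := by
    intro d
    induction d using Nat.strong_induction_on with
    | _ d ih =>
      intro x hd
      by_cases hd1 : d ≤ 1
      · obtain ⟨U₁, hUU₁, g₁, hg₁, hres, hcodim⟩ :=
          WeilExtLib.exists_extend_proper pA t (fun y _ => hreg y) U hU g hg
        refine le_iSup (fun j : J => j.1) ⟨U₁, g₁, hg₁, ?_⟩ (hcodim x ?_)
        · rw [← hres, Scheme.homOfLE_homOfLE_assoc]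
        · rw [hd]; exact_mod_cast hd1
      obtain ⟨n, rfl⟩ : ∃ n, d = n + 2 := ⟨d - 2, by omega⟩
      by_contra hx
      haveI := hreg x
      haveI : IsDomain (T.presheaf.stalk x) := CommAlgDim.isDomain_of_isRegularLocalRing _
      let R := T.presheaf.stalk x
      haveI : IsRegularLocalRing R := hreg x
      let φ : Spec R ⟶ T := T.fromSpecStalk x
      have hpre : φ ⁻¹ᵁ M = punct R := by
        ext q
        constructor
        · intro hq hc
          obtain rfl : q = closedPoint R := hc
          refine hx ?_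
          have h1 : φ (closedPoint R) ∈ M := hq
          rwa [Scheme.fromSpecStalk_closedPoint] at h1
        · intro hq
          have hne := (mem_punct q).1 hq
          have hlt : q.asIdeal < maximalIdeal R := lt_of_le_of_ne (le_maximalIdeal q.2.ne_top) hne
          have h1 := WeilExtLib.ringKrullDim_fromSpecStalk x q
          have h2 : q.asIdeal.height < (n + 2 : ℕ) := by
            have h3 : ((maximalIdeal R).height : WithBot ℕ∞) = ((n + 2 : ℕ) : ℕ∞) :=
              IsLocalRing.maximalIdeal_height_eq_ringKrullDim.trans hd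
            rw [WithBot.coe_eq_coe] at h3
            rw [← h3]
            exact Ideal.height_strict_mono_of_isPrime hlt
          obtain ⟨m, hm⟩ := ENat.ne_top_iff_exists.1 h2.ne_top
          rw [← hm] at h1 h2
          exact ih m (by exact_mod_cast h2) (φ q) h1
      let σ := φ ≫ t
      let h₀ : (punct R).toScheme ⟶ A := (Spec R).homOfLE hpre.ge ≫ (φ ∣_ M) ≫ F
      have hh₀ : h₀ ≫ pA = (punct R).ι ≫ σ := by
        simp only [h₀, Category.assoc, hF]
        rw [morphismRestrict_ι_assoc, Scheme.homOfLE_ι_assoc]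
      obtain ⟨l, hl1, hl2⟩ := exists_section n R hd (pullback.fst σ pA) (hA.baseChange σ)
        (pullback.lift (punct R).ι h₀ hh₀.symm) (pullback.lift_fst _ _ _)
      have hl3 : (φ ⁻¹ᵁ M).ι ≫ l ≫ pullback.snd σ pA = (φ ∣_ M) ≫ T.homOfLE le_rfl ≫ F := by
        rw [← Scheme.homOfLE_ι (Spec R) hpre.le, Category.assoc, ← Category.assoc (punct R).ι, hl2, pullback.lift_snd]
        simp only [h₀]
        rw [Scheme.homOfLE_homOfLE_assoc, Scheme.homOfLE_rfl, Scheme.homOfLE_rfl, Category.id_comp, Category.id_comp]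
      have hbot : φ ⟨⊥, Ideal.isPrime_bot⟩ ∈ M := by
        show (⟨⊥, Ideal.isPrime_bot⟩ : PrimeSpectrum R) ∈ φ ⁻¹ᵁ M
        rw [hpre]
        refine (mem_punct _).2 fun hb => ?_
        have h1 : ringKrullDim R = 0 := ringKrullDim_eq_zero_of_isField (isField_iff_maximalIdeal_eq.2 hb.symm)
        rw [hd] at h1
        exact absurd (Nat.cast_eq_zero.1 h1) (by omega)
      obtain ⟨N, gN, hxN, hgN, hag⟩ := WeilExtLib.exists_extend_at t pA M F hF x M le_rfl (l ≫ pullback.snd σ pA)
        (by rw [Category.assoc, ← pullback.condition, ← Category.assoc, hl1, Category.id_comp]) hl3 ⟨_, hbot⟩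
      refine hx (le_iSup (fun j : J => j.1) ⟨N, gN, hgN, ?_⟩ hxN)
      have e := congrArg (fun k => T.homOfLE (inf_le_inf_right N hUM) ≫ k) hag
      simp only [Scheme.homOfLE_homOfLE_assoc] at e
      rw [e, ← hFU, Scheme.homOfLE_homOfLE_assoc]
  have hM : (⊤ : T.Opens) ≤ M := fun x _ => by
    obtain ⟨d, hd⟩ := CommAlgDim.exists_ringKrullDim_eq (R := T.presheaf.stalk x)
    exact hall d x hd
  refine ⟨T.topIso.inv ≫ T.homOfLE hM ≫ F, ?_, ?_⟩
  · simp only [Category.assoc, hF]
    rw [Scheme.homOfLE_ι_assoc]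
    exact T.topIso.inv_hom_id_assoc t
  · rw [← hFU, ← Category.assoc, ← Category.assoc]
    congr 1
    rw [← cancel_mono M.ι, Category.assoc, Category.assoc, Scheme.homOfLE_ι, Scheme.homOfLE_ι,
      show T.topIso.inv ≫ (⊤ : T.Opens).ι = 𝟙 T from T.topIso.inv_hom_id, Category.comp_id]

end AbRegExt
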