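import Mathlib
import Groth.Agent.DvrProperLib.Closure
import Groth.Agent.DevissLib.Basic

/-!
# The closure of a graph

From `PointExtLib.Main`, kept apart to avoid its imports.
-/

set_option autoImplicit false
set_option linter.style.haveILetI false
set_option linter.unusedSectionVars false
set_option maxHeartbeats 2000000
set_option backward.isDefEq.respectTransparency false
set_option backward.isDefEq.respectTransparency.types false
universe u

open CategoryTheory CategoryTheory.Limits AlgebraicGeometry TopologicalSpace Topology IsLocalRing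

noncomputable section

namespace AbRegExt

/-- The closure of the graph of a morphism on an open. -/
theorem exists_graphClosure {X Z S : Scheme.{u}} (p : X ⟶ S) (q : Z ⟶ S) [IsProper q] (U : X.Opens)
    [IsReduced (U : Scheme.{u})] (φ : (U : Scheme.{u}) ⟶ Z) (hφ : φ ≫ q = U.ι ≫ p) :
    ∃ (Γ : Scheme.{u}) (f : Γ ⟶ X) (g : Γ ⟶ Z), IsProper f ∧ IsIso (f ∣_ U) ∧ g ≫ q = f ≫ p ∧
      (f ⁻¹ᵁ U).ι ≫ g = (f ∣_ U) ≫ φ := by
  let γ : (U : Scheme.{u}) ⟶ pullback p q := pullback.lift U.ι φ hφ.symm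
  let C : Closeds ↥(pullback p q) := ⟨closure (Set.range γ), isClosed_closure⟩
  let J := Scheme.IdealSheafData.vanishingIdeal C
  haveI : IsReduced J.subscheme := DevissLib.isReduced_vanishingIdeal' C
  let ι : J.subscheme ⟶ pullback p q := J.subschemeι
  have hι : Set.range ι = closure (Set.range γ) := by
    show Set.range J.subschemeι = _
    rw [Scheme.IdealSheafData.range_subschemeι, Scheme.IdealSheafData.coe_support_vanishingIdeal]; rfl
  let f : J.subscheme ⟶ X := ι ≫ pullback.fst p q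
  haveI : IsProper f := inferInstance
  -- over `U` the closure is the graph
  let V : (pullback p q).Opens := pullback.fst p q ⁻¹ᵁ U
  have hγV : Set.range γ ⊆ Set.range V.ι := by
    rintro _ ⟨u, rfl⟩
    rw [Scheme.Opens.range_ι]
    show pullback.fst p q (γ u) ∈ U
    rw [← Scheme.Hom.comp_apply, pullback.lift_fst]
    exact u.2
  let γ' : (U : Scheme.{u}) ⟶ (V : Scheme.{u}) := IsOpenImmersion.lift V.ι γ hγV
  have hγ' : γ' ≫ V.ι = γ := IsOpenImmersion.lift_fac _ _ _
  have hsec : γ' ≫ (pullback.fst p q ∣_ U) = 𝟙 _ := by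
    rw [← cancel_mono U.ι, Category.assoc, morphismRestrict_ι, ← Category.assoc, hγ', pullback.lift_fst,
      Category.id_comp]
  haveI : IsClosedImmersion γ' := by
    haveI : IsClosedImmersion (γ' ≫ (pullback.fst p q ∣_ U)) := by rw [hsec]; infer_instance
    exact IsClosedImmersion.of_comp γ' (pullback.fst p q ∣_ U)
  have hin : ∀ z, z ∈ closure (Set.range γ) → pullback.fst p q z ∈ U → z ∈ Set.range γ := by
    intro z hz hzU
    obtain ⟨v, rfl⟩ : z ∈ Set.range V.ι := by rw [Scheme.Opens.range_ι]; exact hzU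
    have h1 : v ∈ closure (Set.range γ') := by
      rw [V.ι.isOpenEmbedding.isEmbedding.closure_eq_preimage_closure_image, Set.mem_preimage,
        ← Set.range_comp, ← TopCat.coe_comp, ← Scheme.Hom.comp_base, hγ']
      exact hz
    rw [γ'.isClosedEmbedding.isClosed_range.closure_eq] at h1
    obtain ⟨u, rfl⟩ := h1
    exact ⟨u, by rw [← hγ']; rfl⟩
  have hsub : Set.range γ ⊆ Set.range ι := hι ▸ subset_closure
  let α : (U : Scheme.{u}) ⟶ J.subscheme :=
    IsClosedImmersion.lift J.subschemeι γ (DvrProperLib.ker_le_ker_of_range_subset _ _ hsub)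
  have hα : α ≫ ι = γ := IsClosedImmersion.lift_fac _ _ _
  have hαU : Set.range α ⊆ Set.range (f ⁻¹ᵁ U).ι := by
    rintro _ ⟨u, rfl⟩
    rw [Scheme.Opens.range_ι]
    show pullback.fst p q (ι (α u)) ∈ U
    rw [← Scheme.Hom.comp_apply α, hα, ← Scheme.Hom.comp_apply, pullback.lift_fst]
    exact u.2
  let α' : (U : Scheme.{u}) ⟶ (f ⁻¹ᵁ U : Scheme.{u}) := IsOpenImmersion.lift (f ⁻¹ᵁ U).ι α hαU
  have hα' : α' ≫ (f ⁻¹ᵁ U).ι = α := IsOpenImmersion.lift_fac _ _ _
  haveI : IsReduced (f ⁻¹ᵁ U : Scheme.{u}) := inferInstance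
  let β : (f ⁻¹ᵁ U : Scheme.{u}) ⟶ pullback p q := (f ⁻¹ᵁ U).ι ≫ ι
  have hβV : Set.range β ⊆ Set.range V.ι := by
    rintro _ ⟨x, rfl⟩
    rw [Scheme.Opens.range_ι]
    exact x.2
  let β' : (f ⁻¹ᵁ U : Scheme.{u}) ⟶ (V : Scheme.{u}) := IsOpenImmersion.lift V.ι β hβV
  have hβ' : β' ≫ V.ι = β := IsOpenImmersion.lift_fac _ _ _
  have hβγ : Set.range β' ⊆ Set.range γ' := by
    rintro _ ⟨x, rfl⟩
    obtain ⟨u, hu⟩ := hin (β x) (hι.le ⟨_, rfl⟩) x.2
    refine ⟨u, V.ι.isOpenEmbedding.injective ?_⟩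
    rw [← Scheme.Hom.comp_apply, hγ', ← Scheme.Hom.comp_apply, hβ']
    exact hu
  let r : (f ⁻¹ᵁ U : Scheme.{u}) ⟶ (U : Scheme.{u}) :=
    IsClosedImmersion.lift γ' β' (DvrProperLib.ker_le_ker_of_range_subset _ _ hβγ)
  have hr : r ≫ γ = β := by rw [← hγ', ← Category.assoc, IsClosedImmersion.lift_fac, hβ']
  have hrf : r = f ∣_ U := by
    rw [← cancel_mono U.ι, morphismRestrict_ι, ← pullback.lift_fst U.ι φ hφ.symm, ← Category.assoc, hr]
    rfl
  haveI : IsIso (f ∣_ U) := by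
    refine ⟨α', ?_, ?_⟩
    · rw [← cancel_mono ((f ⁻¹ᵁ U).ι ≫ ι), Category.assoc, ← Category.assoc α', hα', hα, Category.id_comp, ← hrf, hr]
    · rw [← cancel_mono U.ι, Category.assoc, morphismRestrict_ι, ← Category.assoc, hα', Category.id_comp]
      show α ≫ ι ≫ pullback.fst p q = U.ι
      rw [← Category.assoc, hα, pullback.lift_fst]
  refine ⟨J.subscheme, f, ι ≫ pullback.snd p q, ‹IsProper f›, ‹IsIso (f ∣_ U)›, ?_, ?_⟩
  · show (ι ≫ pullback.snd p q) ≫ q = (ι ≫ pullback.fst p q) ≫ p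
    rw [Category.assoc, Category.assoc, pullback.condition]
  · rw [← Category.assoc, show (f ⁻¹ᵁ U).ι ≫ ι = (f ∣_ U) ≫ γ by rw [← hrf, hr], Category.assoc, pullback.lift_snd]

end AbRegExt
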