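import Groth.Agent.AbRegExtLib.Contract
import Groth.Agent.AbRegExtLib.Graph
import Groth.Agent.S7320
import Groth.Agent.WeilExtLib.Group

/-!
# Extension over the closed point of a regular local ring
-/

set_option autoImplicit false
set_option linter.style.haveILetI false
set_option backward.isDefEq.respectTransparency false
set_option backward.isDefEq.respectTransparency.types false
set_option maxHeartbeats 1000000

universe u

open CategoryTheory CategoryTheory.Limits AlgebraicGeometry TopologicalSpace IsLocalRing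

noncomputable section

namespace AbRegExt

theorem isDominant_ι {X : Scheme.{u}} [IrreducibleSpace X] (O : X.Opens) (h : (O : Set X).Nonempty) : IsDominant O.ι :=
  ⟨by rw [DenseRange, Scheme.Opens.range_ι]; exact O.2.dense h⟩

/-- The punctured spectrum of a local ring. -/
def punct (R : CommRingCat.{u}) [IsLocalRing R] : (Spec R).Opens :=
  ⟨({closedPoint R} : Set (Spec R))ᶜ, (isClosed_singleton_closedPoint R).isOpen_compl⟩

theorem mem_punct {R : CommRingCat.{u}} [IsLocalRing R] (q : PrimeSpectrum R) :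
    q ∈ punct R ↔ q.asIdeal ≠ maximalIdeal R :=
  ⟨fun h h' => h (PrimeSpectrum.ext h'), fun h h' => h (congrArg PrimeSpectrum.asIdeal h')⟩

/-- Dimension two. -/
theorem exists_section_dim_two (R : CommRingCat.{u}) [IsRegularLocalRing R] (hd : ringKrullDim R = 2)
    {A : Scheme.{u}} (p : A ⟶ Spec R) [IsProper p] (hA : NoRat p)
    (h : (punct R).toScheme ⟶ A) (hh : h ≫ p = (punct R).ι) :
    ∃ l : Spec R ⟶ A, l ≫ p = 𝟙 _ ∧ (punct R).ι ≫ l = h := by
  haveI : IsDomain R := CommAlgDim.isDomain_of_isRegularLocalRing _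
  let O := punct R
  let T : Set (Spec R) := {closedPoint R}
  have hTc : IsClosed T := isClosed_singleton_closedPoint R
  have hT : ∀ x ∈ T, IsClosed ({x} : Set (Spec R)) ∧ IsRegularLocalRing ((Spec R).presheaf.stalk x) ∧
      ringKrullDim ((Spec R).presheaf.stalk x) = 2 := by
    intro x hx
    obtain rfl : x = closedPoint R := hx
    let e := (stalkClosedPointIso R).commRingCatIsoToRingEquiv
    exact ⟨hTc, IsRegularLocalRing.of_ringEquiv e.symm, (ringKrullDim_eq_of_ringEquiv e).trans hd⟩
  obtain ⟨G, f, gA, hfp, hfi, hw, hag⟩ :=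
    exists_graphClosure (𝟙 (Spec R)) p O h (hh.trans (Category.comp_id _).symm)
  haveI := hfp
  obtain ⟨X', g, hg, hgi, k, hk⟩ := Groth.Agent.S7320.result (Spec R) T (Set.finite_singleton _) hTc hT f hfi
  haveI : IsIso (g ∣_ O) := hgi
  obtain ⟨l, hlp, hgl⟩ := descend g hg p (𝟙 (Spec R)) (k ≫ gA) hA (by rw [Category.assoc, hw, ← Category.assoc, hk])
  refine ⟨l, hlp, ?_⟩
  let k' : (g ⁻¹ᵁ O).toScheme ⟶ (f ⁻¹ᵁ O).toScheme := IsOpenImmersion.lift (f ⁻¹ᵁ O).ι ((g ⁻¹ᵁ O).ι ≫ k) (by
    rintro _ ⟨x, rfl⟩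
    rw [Scheme.Opens.range_ι]
    show f (k x.1) ∈ O
    rw [← Scheme.Hom.comp_apply, hk]
    exact x.2)
  have hk' : k' ≫ (f ⁻¹ᵁ O).ι = (g ⁻¹ᵁ O).ι ≫ k := IsOpenImmersion.lift_fac _ _ _
  have hkO : k' ≫ (f ∣_ O) = g ∣_ O := by
    rw [← cancel_mono O.ι, Category.assoc, morphismRestrict_ι, ← Category.assoc, hk', Category.assoc, hk, morphismRestrict_ι]
  rw [← cancel_epi (g ∣_ O), morphismRestrict_ι_assoc, hgl, ← Category.assoc, ← hk', Category.assoc, hag,
    ← Category.assoc, hkO]

/-- **Sections over the punctured spectrum of a regular local ring extend.** -/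
theorem exists_section : ∀ (n : ℕ) (R : CommRingCat.{u}) [IsRegularLocalRing R] (_ : ringKrullDim R = (n + 2 : ℕ))
    {A : Scheme.{u}} (p : A ⟶ Spec R) [IsProper p] (_ : NoRat p)
    (h : (punct R).toScheme ⟶ A) (_ : h ≫ p = (punct R).ι),
    ∃ l : Spec R ⟶ A, l ≫ p = 𝟙 _ ∧ (punct R).ι ≫ l = h := by
  intro n
  induction n with
  | zero =>
    intro R _ hd A p _ hA h hh
    exact exists_section_dim_two R (by simpa using hd) p hA h hh
  | succ n ih =>
    intro R _ hd A p _ hA h hh
    haveI : IsDomain R := CommAlgDim.isDomain_of_isRegularLocalRing _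
    haveI : UniqueFactorizationMonoid R := RegUFDLib.uniqueFactorizationMonoid R
    have hm : maximalIdeal R ≠ ⊥ := by
      intro hb
      have h1 : ringKrullDim R = 0 := ringKrullDim_eq_zero_of_isField (isField_iff_maximalIdeal_eq.2 hb)
      rw [hd] at h1
      exact absurd (Nat.cast_eq_zero.1 h1) (by omega)
    obtain ⟨x, hx, hx2, -⟩ := CommAlgDim.exists_mem_notMem_sq (R := R) Set.finite_empty (by simp) (by simp) hm
    let R' : CommRingCat.{u} := CommRingCat.of (R ⧸ Ideal.span {x})
    haveI : IsRegularLocalRing R' := CommAlgDim.isRegularLocalRing_quotient_singleton hx hx2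
    haveI : IsDomain R' := CommAlgDim.isDomain_of_isRegularLocalRing _
    have hd' : ringKrullDim R' = (n + 2 : ℕ) := by
      haveI : Nontrivial (R ⧸ Ideal.span {x}) := inferInstanceAs (Nontrivial R')
      have h1 := CommAlgDim.spanFinrank_maximalIdeal_quotient_singleton hx hx2
      have h2 := IsRegularLocalRing.spanFinrank_maximalIdeal (R := R)
      rw [hd] at h2
      have h2' : (maximalIdeal R).spanFinrank = n + 1 + 2 := by exact_mod_cast h2
      rw [← IsRegularLocalRing.spanFinrank_maximalIdeal (R := R')]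
      have h3 : (maximalIdeal R').spanFinrank = n + 2 := by
        show (maximalIdeal (R ⧸ Ideal.span {x})).spanFinrank = n + 2
        omega
      exact_mod_cast h3
    let q : R ⟶ R' := CommRingCat.ofHom (Ideal.Quotient.mk (Ideal.span {x}))
    have hq : Function.Surjective q.hom := Ideal.Quotient.mk_surjective
    let i : Spec R' ⟶ Spec R := Spec.map q
    haveI : IsClosedImmersion i := IsClosedImmersion.spec_of_surjective q hq
    haveI : IsLocalHom q.hom := .of_surjective _ hq
    have hi : i (closedPoint R') = closedPoint R := comap_closedPoint q.hom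
    have hiO : i ⁻¹ᵁ punct R = punct R' := by
      ext z
      show i z ≠ closedPoint R ↔ z ≠ closedPoint R'
      exact ⟨fun h e => h (e ▸ hi), fun h e => h (i.isClosedEmbedding.injective (e.trans hi.symm))⟩
    let h' : (punct R').toScheme ⟶ A := (Spec R').homOfLE hiO.ge ≫ (i ∣_ punct R) ≫ h
    have hh' : h' ≫ p = (punct R').ι ≫ i := by
      simp only [h', Category.assoc, hh, morphismRestrict_ι]
      rw [Scheme.homOfLE_ι_assoc]
    let s' : (punct R').toScheme ⟶ pullback i p := pullback.lift (punct R').ι h' hh'.symm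
    obtain ⟨l', hl'1, hl'2⟩ := ih R' hd' (pullback.fst i p) (hA.baseChange i) s' (pullback.lift_fst _ _ _)
    let a := (l' ≫ pullback.snd i p) (closedPoint R')
    obtain ⟨W, hW, haW, -⟩ := exists_isAffineOpen_mem_and_subset (x := a) (U := ⊤) trivial
    haveI : IsAffine W.toScheme := hW
    let OW : (Spec R).Opens := (punct R).ι ''ᵁ (h ⁻¹ᵁ W)
    -- the points of the divisor
    have hdiv : ∀ z : PrimeSpectrum R, z ∈ punct R → x ∈ z.asIdeal → z ∈ OW := by
      intro z hz hxz
      obtain ⟨z', rfl⟩ : ∃ z', i z' = z := by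
        have h1 : z ∈ PrimeSpectrum.zeroLocus (Ideal.span {x} : Set R) := by
          rw [PrimeSpectrum.mem_zeroLocus, SetLike.coe_subset_coe, Ideal.span_singleton_le_iff_mem]
          exact hxz
        have h2 := _root_.range_comap_of_surjective _ q.hom hq
        rw [show RingHom.ker q.hom = Ideal.span {x} from Ideal.mk_ker] at h2
        exact h2.ge h1
      have hz' : z' ∈ punct R' := hiO.le hz
      have hval : h ⟨i z', hz⟩ = (l' ≫ pullback.snd i p) z' := by
        have e1 : ((punct R').ι ≫ l' ≫ pullback.snd i p) ⟨z', hz'⟩ = h' ⟨z', hz'⟩ := by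
          rw [← Category.assoc, hl'2, pullback.lift_snd]
        refine Eq.trans ?_ e1.symm
        refine congrArg h (Subtype.ext ?_)
        show i z' = ((i ∣_ punct R) ((Spec R').homOfLE hiO.ge ⟨z', hz'⟩)).1
        rw [morphismRestrict_base_coe]
        exact congrArg i (congr($(Scheme.homOfLE_ι (Spec R') hiO.ge).base ⟨z', hz'⟩)).symm
      refine ⟨⟨i z', hz⟩, ?_, rfl⟩
      show h ⟨i z', hz⟩ ∈ W
      rw [hval]
      exact ((specializes_closedPoint z').map (l' ≫ pullback.snd i p).continuous).mem_open W.2 haW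
    have hgen : i ⟨⊥, Ideal.isPrime_bot⟩ ∈ punct R := by
      refine (show (⟨⊥, Ideal.isPrime_bot⟩ : PrimeSpectrum R') ∈ i ⁻¹ᵁ punct R from ?_)
      refine hiO.ge ((mem_punct _).2 fun hb => ?_)
      have h1 : ringKrullDim R' = 0 := ringKrullDim_eq_zero_of_isField (isField_iff_maximalIdeal_eq.2 hb.symm)
      rw [hd'] at h1
      exact absurd (Nat.cast_eq_zero.1 h1) (by omega)
    have hxi : x ∈ (i ⟨⊥, Ideal.isPrime_bot⟩ : PrimeSpectrum R).asIdeal := by
      show q.hom x ∈ (⊥ : Ideal R')
      rw [Ideal.mem_bot]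
      exact Ideal.Quotient.eq_zero_iff_mem.2 (Ideal.mem_span_singleton_self x)
    haveI : Nonempty OW := ⟨⟨_, hdiv _ hgen hxi⟩⟩
    have hprime : ∀ (π : R) (hπ : Prime π),
        (⟨Ideal.span {π}, (Ideal.span_singleton_prime hπ.ne_zero).2 hπ⟩ : PrimeSpectrum R) ∈ OW := by
      intro π hπ
      by_contra hP
      have hmin : maximalIdeal R ∈ (Ideal.span {π, x}).minimalPrimes := by
        refine ⟨⟨(maximalIdeal.isMaximal R).isPrime, Ideal.span_le.2 ?_⟩, fun Q hQ hQm => ?_⟩
        · rintro r (rfl | rfl)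
          · exact (le_maximalIdeal ((Ideal.span_singleton_prime hπ.ne_zero).2 hπ).ne_top) (Ideal.mem_span_singleton_self r)
          · exact hx
        · by_contra hne
          obtain ⟨hQp, hQl⟩ := hQ
          let z : PrimeSpectrum R := ⟨Q, hQp⟩
          have hz : z ∈ OW := hdiv z ((mem_punct z).2 fun e => hne e.ge) (hQl (Ideal.subset_span (Set.mem_insert_of_mem _ rfl)))
          refine hP (((PrimeSpectrum.le_iff_specializes _ z).1 ?_).mem_open OW.2 hz)
          show Ideal.span {π} ≤ Q
          rw [Ideal.span_singleton_le_iff_mem]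
          exact hQl (Ideal.subset_span (Set.mem_insert _ _))
      have h1 := Ideal.height_le_card_of_mem_minimalPrimes_span ((Set.finite_singleton x).insert π) hmin
      have h2 : ({π, x} : Set R).ncard ≤ 2 := (Set.ncard_insert_le _ _).trans (by simp)
      have h3 : ((maximalIdeal R).height : WithBot ℕ∞) = ((n + 1 + 2 : ℕ) : ℕ∞) :=
        IsLocalRing.maximalIdeal_height_eq_ringKrullDim.trans hd
      rw [WithBot.coe_eq_coe] at h3
      rw [h3] at h1
      have h4 : n + 1 + 2 ≤ ({π, x} : Set R).ncard := by exact_mod_cast h1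
      omega
    obtain ⟨l₀, hl₀⟩ := WeilExtLib.exists_ext_affine R OW hprime (((punct R).ι.isoImage (h ⁻¹ᵁ W)).inv ≫ (h ∣_ W))
    have hl : (l₀ ≫ W.ι) ≫ p = 𝟙 _ := by
      haveI := isDominant_ι OW ⟨_, hdiv _ hgen hxi⟩
      refine ext_of_isDominant OW.ι ?_
      rw [Category.assoc, ← Category.assoc OW.ι l₀, hl₀, Category.assoc, morphismRestrict_ι_assoc, hh,
        Scheme.Hom.isoImage_inv_ι, Category.comp_id]
    refine ⟨l₀ ≫ W.ι, hl, ?_⟩
    · haveI : IsDominant (h ⁻¹ᵁ W).ι := by
        haveI : Nonempty (punct R).toScheme := ⟨⟨_, hgen⟩⟩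
        haveI : IsIntegral (punct R).toScheme := isIntegral_of_isOpenImmersion (punct R).ι
        obtain ⟨z, hz, -⟩ := hdiv _ hgen hxi
        exact isDominant_ι _ ⟨z, hz⟩
      have key : (h ⁻¹ᵁ W).ι ≫ (punct R).ι ≫ l₀ ≫ W.ι = (h ⁻¹ᵁ W).ι ≫ h := by
        rw [← Category.assoc _ (punct R).ι, ← Scheme.Hom.isoImage_hom_ι (punct R).ι (h ⁻¹ᵁ W), Category.assoc,
          ← Category.assoc OW.ι l₀, hl₀, Category.assoc, Iso.hom_inv_id_assoc, morphismRestrict_ι]
      refine ext_of_isDominant_of_isSeparated p ?_ (h ⁻¹ᵁ W).ι key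
      rw [hh, Category.assoc, hl, Category.comp_id]

end AbRegExt
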