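import Groth.Agent.AbRegExtLib.FieldExt
import Groth.Agent.BlowUpLib.RegBlow

/-!
# Rational maps from smooth projective varieties to projective varieties without rational curves
-/

set_option autoImplicit false
set_option linter.style.haveILetI false
set_option backward.isDefEq.respectTransparency false
set_option backward.isDefEq.respectTransparency.types false

universe u

open CategoryTheory CategoryTheory.Limits AlgebraicGeometry TopologicalSpace

noncomputable section

namespace AbRegExt

variable {k : Type u} [Field k] [IsAlgClosed k]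

theorem isProper_of_closedImmersion {X : Scheme.{u}} (s : X ⟶ Spec (CommRingCat.of k))
    (hX : ∃ (n : ℕ) (ι : X ⟶ CohB1.ProjSpace n k), IsClosedImmersion ι ∧ ι ≫ CohB1.ProjSpace.toSpec n k = s) :
    IsProper s := by
  obtain ⟨n, ι, hι, rfl⟩ := hX
  haveI := hι
  haveI : IsProper (CohB1.ProjSpace.toSpec n k) := ProjDegLib.toSpec_isProper k n
  infer_instance

/-- A rational map from a smooth variety to a proper scheme without rational curves is everywhere defined. -/
theorem exists_extension_smooth {X Y : Scheme.{u}} (s : X ⟶ Spec (CommRingCat.of k)) [IsIntegral X] [Smooth s]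
    (p : Y ⟶ Spec (CommRingCat.of k)) [IsProper p]
    (h : ∀ g : CohB1.ProjSpace 1 k ⟶ Y, g ≫ p = CohB1.ProjSpace.toSpec 1 k → ∃ y : Y, Set.range g.base ⊆ {y})
    (U : X.Opens) (hU : (U : Set X).Nonempty) (g : U.toScheme ⟶ Y) (hg : g ≫ p = U.ι ≫ s) :
    ∃ g' : X ⟶ Y, U.ι ≫ g' = g ∧ g' ≫ p = s := by
  haveI : IsLocallyNoetherian X := LocallyOfFiniteType.isLocallyNoetherian s
  have hreg : ∀ x : X, IsRegularLocalRing (X.presheaf.stalk x) := fun x =>
    haveI := WeilExtLib.isRegular_stalk_dedekind (R := k) (s x)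
    BlowUpLib.isRegularLocalRing_stalk_of_smooth s x
  obtain ⟨g', h1, h2⟩ := exists_extension p (noRat_of_noRatCurve p h) hreg s U (U.2.dense hU) g hg
  exact ⟨g', h2, h1⟩

/-- A birational self-map of a smooth proper variety without rational curves is an automorphism. -/
theorem exists_aut_smooth {X : Scheme.{u}} (s : X ⟶ Spec (CommRingCat.of k)) [IsIntegral X] [Smooth s] [IsProper s]
    (h : ∀ g : CohB1.ProjSpace 1 k ⟶ X, g ≫ s = CohB1.ProjSpace.toSpec 1 k → ∃ x : X, Set.range g.base ⊆ {x})
    (U V : X.Opens) (hU : (U : Set X).Nonempty) (φ : U.toScheme ≅ V.toScheme)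
    (hφ : φ.hom ≫ V.ι ≫ s = U.ι ≫ s) :
    ∃ e : X ≅ X, U.ι ≫ e.hom = φ.hom ≫ V.ι ∧ e.hom ≫ s = s := by
  have hV : (V : Set X).Nonempty := by
    obtain ⟨x, hx⟩ := hU
    exact ⟨_, (φ.hom ⟨x, hx⟩).2⟩
  obtain ⟨a, ha, has⟩ := exists_extension_smooth s s h U hU (φ.hom ≫ V.ι) (by rw [Category.assoc, hφ])
  obtain ⟨b, hb, hbs⟩ := exists_extension_smooth s s h V hV (φ.inv ≫ U.ι)
    (by rw [Category.assoc, ← hφ, Iso.inv_hom_id_assoc])
  refine ⟨⟨a, b, ?_, ?_⟩, ha, has⟩
  · exact ext_of_dense s (U.2.dense hU) (by rw [Category.assoc, hbs, has, Category.id_comp])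
      (by rw [← Category.assoc, ha, Category.assoc, hb, Iso.hom_inv_id_assoc, Category.comp_id])
  · exact ext_of_dense s (V.2.dense hV) (by rw [Category.assoc, has, hbs, Category.id_comp])
      (by rw [← Category.assoc, hb, Category.assoc, ha, Iso.inv_hom_id_assoc, Category.comp_id])

end AbRegExt
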